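import Groth.Agent.H24NFlat.Main

/-!
# Formal modules on an open of an affine scheme come from systems of finite modules
-/

set_option autoImplicit false
set_option linter.style.haveILetI false

universe u

open CategoryTheory CategoryTheory.Limits AlgebraicGeometry Opposite

attribute [-instance] CategoryTheory.catToReflQuiver
attribute [-instance] Groth.Agent.H10Coh.hasFiniteBiproducts_modules

namespace Groth.Agent.H24NFlat

attribute [local instance 10000] H10Coh.hasSheafifyAb H10Coh.hasWeakSheafifyAb H10Coh.hasExtAb H10Coh.enoughInjAb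

open H24Formal2.Bridge (tU)
open H16Derived.KFlat

variable (A : Type u) [CommRing A] [IsNoetherianRing A] (a : Ideal A)

local notation "U" => LocCoh.puncturedOpen A a

/-- A map of modules which vanishes on the open has torsion values. -/
theorem isTorsion_of_map_eq_zero {M N : ModuleCat.{u} A} (φ : M ⟶ N) (h : (tU A U).map φ = 0) (m : M) :
    φ.hom m ∈ DRing.torsionSub a N := by
  obtain ⟨η, hη, hη0, -⟩ := H24Punct.exists_ηX A a
  rw [← hη0, ← hη φ m, h]
  exact H24Algz5.lin_zero_apply 0 _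

/-- A torsion module vanishes on the open. -/
theorem isZero_tU_of_torsion (M : ModuleCat.{u} A) (hM : ∀ m : M, ∃ k : ℕ, ∀ c ∈ a ^ k, c • m = 0) :
    IsZero ((tU A U).obj M) := by
  rw [IsZero.iff_id_eq_zero]
  refine hom_eq_zero_of_stalk _ fun y v => ?_
  have hv : v = 0 := by
    let p := (Scheme.Opens.ι U).base y
    let S := (Spec (CommRingCat.of A)).presheaf.stalk p
    letI : Algebra A S := TildeStalk.algebra (R := CommRingCat.of A) p
    haveI : IsLocalization (p : PrimeSpectrum A).asIdeal.primeCompl S :=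
      H24Punct.isLocalization_toRing (CommRingCat.of A) p
    let sP := (tilde (R := CommRingCat.of A) M).presheaf.stalk p
    letI : Module A sP := Module.compHom _ (algebraMap A S)
    haveI : IsScalarTower A S sP := .of_algebraMap_smul fun _ _ => rfl
    let l : M →ₗ[A] sP :=
      { TildeStalk.toStalkAdd (R := CommRingCat.of A) M p with
        map_smul' := fun c m => TildeStalk.toStalkAdd_smul (R := CommRingCat.of A) M p c m }
    haveI : IsLocalizedModule (p : PrimeSpectrum A).asIdeal.primeCompl l :=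
      (isLocalizedModule_iff_isBaseChange _ S l).2
        (IsBaseChange.of_equiv (TildeStalk.stalkEquiv (R := CommRingCat.of A) M p) fun m => by
          show TildeStalk.stalkLinMap (R := CommRingCat.of A) M p (1 ⊗ₜ m) = _
          rw [TildeStalk.stalkLinMap_tmul, one_smul]
          rfl)
    have hyp : ¬ a ≤ (p : PrimeSpectrum A).asIdeal := fun h => y.2 (SetLike.coe_subset_coe.2 h)
    refine (H24Free.rstE (Scheme.Opens.ι U) (tilde (R := CommRingCat.of A) M) y).injective (Eq.trans ?_ (map_zero _).symm)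
    obtain ⟨⟨m, s⟩, hms⟩ := IsLocalizedModule.mk'_surjective (p : PrimeSpectrum A).asIdeal.primeCompl l
      (H24Free.rstE (Scheme.Opens.ι U) (tilde (R := CommRingCat.of A) M) y v)
    rw [← hms, Function.uncurry_apply_pair, IsLocalizedModule.mk'_eq_zero']
    obtain ⟨k, hk⟩ := hM m
    have hyk : ¬ a ^ k ≤ (p : PrimeSpectrum A).asIdeal := by
      rcases Nat.eq_zero_or_pos k with rfl | hk0
      · rw [pow_zero, Ideal.one_eq_top]
        exact fun h => (p : PrimeSpectrum A).isPrime.ne_top (top_le_iff.1 h)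
      · exact fun h => hyp ((Ideal.IsPrime.pow_le_iff hk0.ne').1 h)
    obtain ⟨c, hc, hcp⟩ := SetLike.not_le_iff_exists.1 hyk
    exact ⟨⟨c, hcp⟩, hk c hc⟩
  subst hv
  exact map_zero _

/-- A module map with torsion cokernel is an epimorphism on the open. -/
theorem epi_tU_map {M N : ModuleCat.{u} A} (φ : M ⟶ N)
    (hφ : ∀ y : N, ∃ k : ℕ, ∀ c ∈ a ^ k, c • y ∈ LinearMap.range φ.hom) : Epi ((tU A U).map φ) := by
  let T : ShortComplex (ModuleCat.{u} A) := ShortComplex.mk φ (ModuleCat.ofHom (LinearMap.range φ.hom).mkQ)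
    (ModuleCat.hom_ext (LinearMap.ext fun m => (Submodule.Quotient.mk_eq_zero _).2 (LinearMap.mem_range_self _ m)))
  have hTe : T.Exact := (ShortComplex.moduleCat_exact_iff T).2 fun y hy => (Submodule.Quotient.mk_eq_zero _).1 hy
  haveI : Epi T.g := (ModuleCat.epi_iff_surjective _).2 (Submodule.mkQ_surjective _)
  have h := hTe.map_of_epi_of_preservesCokernel (tU A U) (by infer_instance) (by infer_instance)
  refine h.epi_f ((isZero_tU_of_torsion A a _ fun y => ?_).eq_of_tgt _ _)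
  obtain ⟨y, rfl⟩ := Submodule.Quotient.mk_surjective _ y
  obtain ⟨k, hk⟩ := hφ y
  exact ⟨k, fun c hc => (Submodule.Quotient.mk_eq_zero _).2 (hk c hc)⟩

theorem mono_tU_map {M N : Type u} [AddCommGroup M] [Module A M] [AddCommGroup N] [Module A N]
    (f : M →ₗ[A] N) (hf : Function.Injective f) : Mono ((tU A U).map (ModuleCat.ofHom f)) := by
  obtain ⟨S, hSdef, hS⟩ := H24Punct.shortExact_tU A a f (LinearMap.range f).mkQ hf (Submodule.mkQ_surjective _)
    (LinearMap.exact_map_mkQ_range f)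
  subst hSdef
  exact hS.mono_f

theorem exists_pow_smul_le {M : Type u} [AddCommGroup M] [Module A M] (P N : Submodule A M) (hN : N.FG)
    (h : ∀ x ∈ N, ∃ k : ℕ, ∀ c ∈ a ^ k, c • x ∈ P) : ∃ k : ℕ, a ^ k • N ≤ P := by
  classical
  obtain ⟨s, hs⟩ := hN
  choose k hk using fun x : (s : Set M) => h x.1 (hs.le (Submodule.subset_span x.2))
  let K := Finset.univ.sup k
  refine ⟨K, Submodule.smul_le.2 fun c hc x hx => ?_⟩
  rw [← hs] at hx
  refine Submodule.span_induction (p := fun x _ => c • x ∈ P) (fun x hx => ?_) (by simp)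
    (fun x y _ _ hx hy => by rw [smul_add]; exact add_mem hx hy)
    (fun r x _ hx => by rw [smul_comm]; exact P.smul_mem r hx) hx
  exact hk ⟨x, hx⟩ c (Ideal.pow_le_pow_right (Finset.le_sup (Finset.mem_univ _)) hc)

/-- Finite submodules with torsion cokernel respected by given maps. -/
theorem exists_chain (Q : ℕ → ModuleCat.{u} A) (t : ∀ n, Q (n + 1) ⟶ Q n) (N : ∀ n, Submodule A (Q n))
    (hNfg : ∀ n, (N n).FG) (hN : ∀ n (q : Q n), ∃ k : ℕ, ∀ c ∈ a ^ k, c • q ∈ N n) :
    ∃ P : ∀ n, Submodule A (Q n), (∀ n, (P n).FG) ∧ (∀ n (q : Q n), ∃ k : ℕ, ∀ c ∈ a ^ k, c • q ∈ P n) ∧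
      ∀ n (x : Q (n + 1)), x ∈ P (n + 1) → (t n).hom x ∈ P n := by
  -- shrink them so that the transition maps respect them
  have hstep : ∀ n (P : Submodule A (Q n)), (∀ q : Q n, ∃ k : ℕ, ∀ c ∈ a ^ k, c • q ∈ P) →
      ∃ k : ℕ, (a ^ k • N (n + 1)).map (t n).hom ≤ P := fun n P hP => by
    obtain ⟨k, hk⟩ := exists_pow_smul_le A a P ((N (n + 1)).map (t n).hom) ((hNfg (n + 1)).map _) fun q _ => hP q
    exact ⟨k, (Submodule.map_smul'' _ _ _).trans_le hk⟩
  have hpow : ∀ n k (q : Q n), ∃ l : ℕ, ∀ c ∈ a ^ l, c • q ∈ a ^ k • N n := fun n k q => by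
    obtain ⟨l, hl⟩ := hN n q
    refine ⟨k + l, fun c hc => ?_⟩
    rw [pow_add] at hc
    refine Submodule.mul_induction_on hc (fun x hx y hy => ?_) fun x y hx hy => by rw [add_smul]; exact add_mem hx hy
    rw [mul_smul]
    exact Submodule.smul_mem_smul hx (hl y hy)
  choose κ hκ using hstep
  let L : ∀ n, {P : Submodule A (Q n) // P.FG ∧ ∀ q : Q n, ∃ k : ℕ, ∀ c ∈ a ^ k, c • q ∈ P} := fun n =>
    Nat.rec ⟨N 0, hNfg 0, hN 0⟩ (fun n P => ⟨a ^ κ n P.1 P.2.2 • N (n + 1),
      Submodule.FG.smul (I := a ^ κ n P.1 P.2.2) (IsNoetherian.noetherian _) (hNfg (n + 1)), hpow (n + 1) _⟩) n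
  exact ⟨fun n => (L n).1, fun n => (L n).2.1, fun n => (L n).2.2, fun n x hx =>
    hκ n (L n).1 (L n).2.2 (Submodule.mem_map_of_mem hx)⟩

/-- The sections of a coherent module on the open have a finite submodule with torsion cokernel. -/
theorem exists_finite_sub (G : (U : Scheme.{u}).Modules) (hG : Coh.IsCoh G) (Q : ModuleCat.{u} A)
    (hQ : Q = (moduleSpecΓFunctor (R := CommRingCat.of A)).obj ((Scheme.Modules.pushforward (Scheme.Opens.ι U)).obj G)) :
    ∃ N : Submodule A Q, N.FG ∧ ∀ q : Q, ∃ k : ℕ, ∀ c ∈ a ^ k, c • q ∈ N := by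
  subst hQ
  letI : (Spec (CommRingCat.of A)).Over (Spec (CommRingCat.of A)) := ⟨𝟙 _⟩
  let R := CommRingCat.of A
  let Q : ModuleCat.{u} A := (moduleSpecΓFunctor (R := CommRingCat.of A)).obj ((Scheme.Modules.pushforward (Scheme.Opens.ι U)).obj G)
  haveI : ((Scheme.Modules.pushforward (Scheme.Opens.ι U)).obj G).IsQuasicoherent := by
    haveI : CompactSpace (U).toScheme := isCompact_iff_compactSpace.1 (TopologicalSpace.NoetherianSpace.isCompact _)
    haveI : QuasiCompact (Scheme.Opens.ι U) := quasiCompact_of_compactSpace _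
    haveI : G.IsQuasicoherent := hG.1
    exact H10Coh.isQuasicoherent_pushforward (Scheme.Opens.ι U) G
  let e : (tU A U).obj Q ≅ G := (Scheme.Modules.restrictFunctor (Scheme.Opens.ι U)).mapIso
    (H10Coh.tildeIso (R := R) ((Scheme.Modules.pushforward (Scheme.Opens.ι U)).obj G)) ≪≫ H10Coh.pushRestrictSelf (Scheme.Opens.ι U) G
  obtain ⟨N₀, hN₀, ⟨θ⟩⟩ := @H10Coh.exists_finite_tilde_restrict (CommRingCat.of A) _ U G hG
  haveI : Module.Finite A N₀ := hN₀
  let φ₁ : tilde (R := R) N₀ ⟶ (Scheme.Modules.pushforward (Scheme.Opens.ι U)).obj G :=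
    (Scheme.Modules.restrictAdjunction (Scheme.Opens.ι U)).homEquiv _ _ θ.inv
  let N₁ : ModuleCat.{u} A := N₀
  haveI : Module.Finite A N₁ := hN₀
  let φ : N₁ ⟶ Q := (tilde.adjunction (R := R)).homEquiv _ _ φ₁
  let φl : N₁ →ₗ[A] Q := φ.hom
  have h1 : (tilde.functor R).map φ ≫ (H10Coh.tildeIso (R := R) ((Scheme.Modules.pushforward (Scheme.Opens.ι U)).obj G)).hom = φ₁ := by
    refine Eq.trans ?_ (((tilde.adjunction (R := R)).homEquiv _ _).symm_apply_apply φ₁)
    exact ((tilde.adjunction (R := R)).homEquiv_counit _ _ _).symm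
  have h2 : (tU A U).map φ ≫ e.hom = θ.inv := by
    refine Eq.trans ?_ (((Scheme.Modules.restrictAdjunction (Scheme.Opens.ι U)).homEquiv _ _).symm_apply_apply θ.inv)
    refine Eq.trans ?_ ((Scheme.Modules.restrictAdjunction (Scheme.Opens.ι U)).homEquiv_counit _ _ _).symm
    refine (Category.assoc _ _ _).symm.trans (congrArg (· ≫ _) ?_)
    exact ((Scheme.Modules.restrictFunctor (Scheme.Opens.ι U)).map_comp _ _).symm.trans
      (congrArg (Scheme.Modules.restrictFunctor (Scheme.Opens.ι U)).map h1)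
  haveI : Epi ((tU A U).map φ) := by
    rw [show (tU A U).map φ = θ.inv ≫ e.inv from ((Iso.eq_comp_inv _).2 h2)]
    exact epi_comp _ _
  refine ⟨LinearMap.range φl, Module.Finite.iff_fg.1 (Module.Finite.range _), fun q => ?_⟩
  have hz : ModuleCat.ofHom φl ≫ ModuleCat.ofHom (LinearMap.range φl).mkQ = 0 :=
    ModuleCat.hom_ext (LinearMap.ext fun m => (Submodule.Quotient.mk_eq_zero _).2 (LinearMap.mem_range_self _ m))
  have h0 : (tU A U).map (ModuleCat.ofHom (LinearMap.range φl).mkQ) = 0 := by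
    haveI : Epi ((tU A U).map (ModuleCat.ofHom φl)) := ‹Epi ((tU A U).map φ)›
    rw [← cancel_epi ((tU A U).map (ModuleCat.ofHom φl)), ← (tU A U).map_comp, hz, (tU A U).map_zero, comp_zero]
  obtain ⟨k, hk⟩ := isTorsion_of_map_eq_zero A a _ h0 q
  exact ⟨k, fun c hc => (Submodule.Quotient.mk_eq_zero _).1 (hk c hc)⟩

variable (I : Ideal A)

/-- The sections of the terms of a formal module, as modules filling the open. -/
theorem exists_sectData (F : ℕᵒᵖ ⥤ (U : Scheme.{u}).Modules) (hF : Formal.IsCohFormal I F) :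
    ∃ (Q : ℕ → ModuleCat.{u} A) (t : ∀ n, Q (n + 1) ⟶ Q n) (ε : ∀ n, (tU A U).obj (Q n) ≅ F.obj (op n)),
      (∀ n, (tU A U).map (t n) ≫ (ε n).hom = (ε (n + 1)).hom ≫ F.map (homOfLE (Nat.le_add_right n 1)).op) ∧
      (∀ n, ∃ N : Submodule A (Q n), N.FG ∧ ∀ q : Q n, ∃ k : ℕ, ∀ c ∈ a ^ k, c • q ∈ N) ∧
      ∀ n (c : A), c ∈ I ^ (n + 1) → ∀ q : Q n, c • q = 0 := by
  letI : (Spec (CommRingCat.of A)).Over (Spec (CommRingCat.of A)) := ⟨𝟙 _⟩
  let R := CommRingCat.of A
  let W := F ⋙ Scheme.Modules.pushforward (Scheme.Opens.ι U)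
  haveI hW : ∀ n : ℕᵒᵖ, (W.obj n).IsQuasicoherent := fun n => by
    haveI : CompactSpace (U).toScheme := isCompact_iff_compactSpace.1 (TopologicalSpace.NoetherianSpace.isCompact _)
    haveI : QuasiCompact (Scheme.Opens.ι U) := quasiCompact_of_compactSpace _
    haveI : (F.obj n).IsQuasicoherent := (hF.1 n.unop).1
    exact H10Coh.isQuasicoherent_pushforward (Scheme.Opens.ι U) (F.obj n)
  let Q : ℕ → ModuleCat.{u} A := fun n => (Algz.sectMod A U F).obj (op n)
  let t : ∀ n, Q (n + 1) ⟶ Q n := fun n => (Algz.sectMod A U F).map (homOfLE (Nat.le_add_right n 1)).op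
  let e₁ : Algz.sectSys A U F ≅ W := NatIso.ofComponents (fun n => H10Coh.tildeIso (R := R) (W.obj n))
      fun {n n'} f => (tilde.adjunction (R := R)).counit.naturality (W.map f)
  let e₂ : Algz.sectSys A U F ⋙ Scheme.Modules.restrictFunctor (Scheme.Opens.ι U) ≅ F :=
    Functor.isoWhiskerRight e₁ _ ≪≫ NatIso.ofComponents (fun n => H10Coh.pushRestrictSelf (Scheme.Opens.ι U) (F.obj n))
      fun {n n'} f => (Scheme.Modules.restrictAdjunction (Scheme.Opens.ι U)).counit.naturality (F.map f)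
  let ε : ∀ n, (tU A U).obj (Q n) ≅ F.obj (op n) := fun n => e₂.app (op n)
  have hε : ∀ n, (tU A U).map (t n) ≫ (ε n).hom = (ε (n + 1)).hom ≫ F.map (homOfLE (Nat.le_add_right n 1)).op :=
    fun n => e₂.hom.naturality (homOfLE (Nat.le_add_right n 1)).op
  -- finite submodules filling the open
  have hfin : ∀ n, ∃ N : Submodule A (Q n), N.FG ∧ ∀ q : Q n, ∃ k : ℕ, ∀ c ∈ a ^ k, c • q ∈ N := fun n =>
    exists_finite_sub A a (F.obj (op n)) (hF.1 n) (Q n) rfl
  -- the truncations are killed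
  have hkill : ∀ n (c : A), c ∈ I ^ (n + 1) → ∀ q : Q n, c • q = 0 := fun n c hc q => by
    have h0 : (Scheme.Modules.pushforward (Scheme.Opens.ι U)).map (Formal.smulMod A (F.obj (op n)) c) = 0 := by
      rw [hF.2.1 n c hc, Functor.map_zero]
    obtain ⟨η, hη, -, -⟩ := H24Punct.exists_ηX A a
    have h1 : (tU A U).map (ModuleCat.ofHom (c • LinearMap.id : Q n →ₗ[A] Q n)) = 0 := by
      rw [H24Punct.map_smul_tU, ← cancel_mono (ε n).hom, zero_comp, H24Formal.smulMod_comm]
      exact (congrArg ((ε n).hom ≫ ·) (hF.2.1 n c hc)).trans comp_zero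
    let adj := (tilde.adjunction (R := R)).comp (Scheme.Modules.restrictAdjunction (Scheme.Opens.ι U))
    have h2 : ModuleCat.ofHom (c • LinearMap.id : Q n →ₗ[A] Q n) = 0 := by
      refine (adj.homEquiv (Q n) (F.obj (op n))).symm.injective ?_
      refine (adj.homEquiv_counit _ _ _).trans (Eq.trans ?_ (adj.homEquiv_counit _ _ _).symm)
      exact (congrArg (· ≫ adj.counit.app _) (h1.trans ((tU A U).map_zero _ _).symm) :)
    exact LinearMap.congr_fun (congrArg ModuleCat.Hom.hom h2) q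
  exact ⟨Q, t, ε, hε, hfin, hkill⟩

/-- Every coherent formal module on the open comes from a system of finite modules. -/
theorem exists_modSys (F : ℕᵒᵖ ⥤ (U : Scheme.{u}).Modules) (hF : Formal.IsCohFormal I F) :
    ∃ (M : ℕ → Type u) (_ : ∀ n, AddCommGroup (M n)) (_ : ∀ n, Module A (M n)) (g : ∀ n, M (n + 1) →ₗ[A] M n),
      (∀ n, Module.Finite A (M n)) ∧ (∀ n, I ^ (n + 1) • (⊤ : Submodule A (M n)) = ⊥) ∧
      (∀ n (x : M (n + 1)), g n x = 0 → ∃ m : ℕ, ∀ c ∈ a ^ m, c • x ∈ I ^ (n + 1) • (⊤ : Submodule A (M (n + 1)))) ∧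
      (∀ n (y : M n), ∃ m : ℕ, ∀ c ∈ a ^ m, c • y ∈ LinearMap.range (g n)) ∧
      Nonempty (F ≅ Functor.ofOpSequence
        (X := fun n => (Scheme.Modules.restrictFunctor (Scheme.Opens.ι U)).obj (Formal2.tmod A (M n)))
        (fun n => (Scheme.Modules.restrictFunctor (Scheme.Opens.ι U)).map (Formal2.tmodMap A (g n)))) := by
  obtain ⟨Q, t, ε, hε, hfin, hkill⟩ := exists_sectData A a I F hF
  choose N hNfg hN using hfin
  obtain ⟨P, hPfg, hPt, hP⟩ := exists_chain A a Q t N hNfg hN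
  let g : ∀ n, P (n + 1) →ₗ[A] P n := fun n => (t n).hom.restrict (hP n)
  have hiota : ∀ n, IsIso ((tU A U).map (ModuleCat.ofHom (P n).subtype)) := fun n => by
    haveI := mono_tU_map A a (P n).subtype Subtype.val_injective
    haveI := epi_tU_map A a (ModuleCat.ofHom (P n).subtype) fun y => by
      obtain ⟨k, hk⟩ := hPt n y
      exact ⟨k, fun c hc => ⟨⟨c • y, hk c hc⟩, rfl⟩⟩
    exact isIso_of_mono_of_epi _
  let α : ∀ n, (tU A U).obj (ModuleCat.of A (P n)) ≅ F.obj (op n) := fun n =>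
    @asIso _ _ _ _ ((tU A U).map (ModuleCat.ofHom (P n).subtype)) (hiota n) ≪≫ ε n
  have hcomm : ∀ n, ModuleCat.ofHom (P (n + 1)).subtype ≫ t n = ModuleCat.ofHom (g n) ≫ ModuleCat.ofHom (P n).subtype :=
    fun n => ModuleCat.hom_ext (LinearMap.ext fun x => rfl)
  have hα : ∀ n, (tU A U).map (ModuleCat.ofHom (g n)) ≫ (α n).hom =
      (α (n + 1)).hom ≫ F.map (homOfLE (Nat.le_add_right n 1)).op := fun n => by
    show (tU A U).map (ModuleCat.ofHom (g n)) ≫ (tU A U).map _ ≫ (ε n).hom = ((tU A U).map _ ≫ (ε (n + 1)).hom) ≫ _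
    refine Eq.trans ?_ (Category.assoc _ _ _).symm
    rw [← hε, ← Category.assoc, ← Category.assoc, ← (tU A U).map_comp, ← (tU A U).map_comp, hcomm]
  refine ⟨fun n => P n, inferInstance, inferInstance, g, fun n => Module.Finite.iff_fg.2 (hPfg n), fun n => ?_,
    fun n x hx => ?_, fun n y => ?_, ⟨?_⟩⟩
  · exact le_bot_iff.1 (Submodule.smul_le.2 fun c hc x _ => (Submodule.mem_bot A).2 (Subtype.ext (hkill n c hc x.1)))
  · -- on the open the kernel of the transition map comes from the power of the ideal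
    let K : Submodule A (P (n + 1)) := I ^ (n + 1) • ⊤
    obtain ⟨hz, hiso⟩ := hF.2.2 n
    have h1 : Formal.smulFamily (I ^ (n + 1)) (F.obj (op (n + 1))) ≫ (α (n + 1)).inv ≫
        (tU A U).map (ModuleCat.ofHom K.mkQ) = 0 := by
      refine Sigma.hom_ext _ _ fun b => ?_
      rw [Formal.smulFamily, Sigma.ι_desc_assoc, comp_zero, ← Category.assoc, H24Formal.smulMod_comm, Category.assoc,
        ← H24Punct.map_smul_tU, ← (tU A U).map_comp]
      have h0 : ModuleCat.ofHom (b.1 • LinearMap.id : P (n + 1) →ₗ[A] P (n + 1)) ≫ ModuleCat.ofHom K.mkQ = 0 :=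
        ModuleCat.hom_ext (LinearMap.ext fun z => (Submodule.Quotient.mk_eq_zero K).2
          (Submodule.smul_mem_smul b.2 Submodule.mem_top))
      rw [h0, (tU A U).map_zero, comp_zero]
    haveI := hiso
    have h2 : (tU A U).map (ModuleCat.ofHom K.mkQ) = (tU A U).map (ModuleCat.ofHom (g n)) ≫ (α n).hom ≫
        inv (cokernel.desc _ _ hz) ≫ cokernel.desc _ _ h1 := by
      refine Eq.trans ?_ (Category.assoc _ _ _)
      rw [hα, Category.assoc, ← cancel_epi (α (n + 1)).inv, Iso.inv_hom_id_assoc]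
      exact (cokernel.π_desc _ _ h1).symm.trans ((congrArg (· ≫ cokernel.desc _ _ h1)
        (show cokernel.π _ = F.map (homOfLE (Nat.le_succ n)).op ≫ inv (cokernel.desc _ _ hz) by
          rw [IsIso.eq_comp_inv, cokernel.π_desc])).trans (Category.assoc _ _ _))
    let ι' : ModuleCat.of A (LinearMap.ker (g n)) ⟶ ModuleCat.of A (P (n + 1)) :=
      ModuleCat.ofHom (LinearMap.ker (g n)).subtype
    have h3 : (tU A U).map (ι' ≫ ModuleCat.ofHom K.mkQ) = 0 := by
      rw [(tU A U).map_comp, h2, ← Category.assoc, ← (tU A U).map_comp,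
        show ι' ≫ ModuleCat.ofHom (g n) = 0 from ModuleCat.hom_ext (LinearMap.ext fun z => z.2), (tU A U).map_zero,
        zero_comp]
    obtain ⟨m, hm⟩ := isTorsion_of_map_eq_zero A a _ h3 ⟨x, hx⟩
    exact ⟨m, fun c hc => (Submodule.Quotient.mk_eq_zero K).1 (hm c hc)⟩
  · obtain ⟨hz, hiso⟩ := hF.2.2 n
    haveI := hiso
    haveI : Epi (F.map (homOfLE (Nat.le_add_right n 1)).op) := by
      rw [show F.map (homOfLE (Nat.le_add_right n 1)).op = cokernel.π _ ≫ cokernel.desc _ _ hz from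
        (cokernel.π_desc _ _ hz).symm]
      exact @epi_comp _ _ _ _ _ _ (inferInstanceAs (Epi (coequalizer.π _ _))) _ (@IsIso.epi_of_iso _ _ _ _ _ hiso)
    haveI : Epi ((tU A U).map (ModuleCat.ofHom (g n))) := by
      rw [show (tU A U).map (ModuleCat.ofHom (g n)) = ((α (n + 1)).hom ≫ F.map (homOfLE (Nat.le_add_right n 1)).op) ≫
        (α n).inv from (Iso.eq_comp_inv _).2 (hα n)]
      exact epi_comp _ _
    have h0 : (tU A U).map (ModuleCat.ofHom (LinearMap.range (g n)).mkQ) = 0 := by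
      rw [← cancel_epi ((tU A U).map (ModuleCat.ofHom (g n))), ← (tU A U).map_comp, comp_zero]
      exact (congrArg (tU A U).map (ModuleCat.hom_ext (LinearMap.ext fun z =>
        (Submodule.Quotient.mk_eq_zero _).2 (LinearMap.mem_range_self _ z)))).trans ((tU A U).map_zero _ _)
    obtain ⟨m, hm⟩ := isTorsion_of_map_eq_zero A a _ h0 y
    exact ⟨m, fun c hc => (Submodule.Quotient.mk_eq_zero _).1 (hm c hc)⟩
  · let S := Functor.ofOpSequence
      (X := fun n => (Scheme.Modules.restrictFunctor (Scheme.Opens.ι U)).obj (Formal2.tmod A (P n)))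
      (fun n => (Scheme.Modules.restrictFunctor (Scheme.Opens.ι U)).map (Formal2.tmodMap A (g n)))
    let τ : S ⟶ F := NatTrans.ofOpSequence (fun n => (α n).hom) fun n => by
      rw [Functor.ofOpSequence_map_homOfLE_succ]
      exact hα n
    haveI : ∀ n, IsIso (τ.app n) := fun n => inferInstanceAs (IsIso (α n.unop).hom)
    haveI : IsIso τ := NatIso.isIso_of_isIso_app τ
    exact (asIso τ).symm

end Groth.Agent.H24NFlat
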